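import Mathlib
import Cfsg.Prelude.Def_ChevStructure
import Cfsg.Agent.Lib.Helper5.ChevTwistBN

set_option autoImplicit false

/-!
The elements of the Weyl group commuting with a symmetry `ρ` of the roots are the products of the
elements `w_J`, `J` an orbit of `ρ` on the fundamental roots; here `w_J` is given by a word, and
the orbits need not consist of pairwise orthogonal roots.
-/

namespace Cfsg.Agent.Lib.Helper5.TwX

open Cfsg Cfsg.Lie Cfsg.Agent.Lib.Helper5.ChevSym Cfsg.Agent.Lib.Helper5.ChevStruct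

/-- the hypotheses on the list of the words `w_J` -/
structure OrbsX (D : ChevalleyDatum) (G : GraphData) (orbs : List (List ℕ)) : Prop where
  wd : ∀ J ∈ orbs, ∀ a ∈ J, a < D.rank
  trans : ∀ J ∈ orbs, ∀ a ∈ J, ∀ b ∈ J, ∃ k < 4, (fun i => G.rho.getD i 0)^[k] a = b
  comm : ∀ J ∈ orbs, ∀ r < D.nroots, wAct D J (G.pr.getD r 0) = G.pr.getD (wAct D J r) 0
  invol : ∀ J ∈ orbs, ∀ r < D.nroots, wAct D J (wAct D J r) = r
  cover : ∀ i < D.rank, ∃ J ∈ orbs, i ∈ J
  drop : ∀ J ∈ orbs, ∀ w : List ℕ, Wd D w →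
    (∀ a ∈ J, ¬ D.IsPosRoot (wAct D w (D.simple a))) →
    (negSet D (w ++ J)).card + J.length = (negSet D w).card

section

variable (D : ChevalleyDatum) (hD : D ∈ Seven) (G : GraphData)
  (hp : checkGraphPerm D G = true) (hS : SigmaOK D G) (orbs : List (List ℕ))
  (hO : OrbsX D G orbs)

include hD hO in
theorem stable_flattenX (Js : List (List ℕ)) (hJs : ∀ J ∈ Js, J ∈ orbs) :
    StableW D G Js.flatten := by
  induction Js with
  | nil => exact ⟨Wd.nil D, fun r _ => rfl⟩
  | cons J Js ih =>
    have hJ := hJs J (List.mem_cons_self ..)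
    have ih' := ih (fun J' hJ' => hJs J' (List.mem_cons_of_mem _ hJ'))
    have hJwd : Wd D J := hO.wd J hJ
    rw [List.flatten_cons]
    refine ⟨hJwd.append ih'.1, fun r hr => ?_⟩
    rw [wAct_append, wAct_append, ih'.2 r hr, hO.comm J hJ _ (wAct_lt D hD _ ih'.1 r hr)]

include hD hS hO in
/-- the words commuting with `ρ` act as products of the `w_J` -/
theorem stable_genX (w : List ℕ) (hw : StableW D G w) :
    ∃ Js : List (List ℕ), (∀ J ∈ Js, J ∈ orbs) ∧
      ∀ r < D.nroots, wAct D w r = wAct D Js.flatten r := by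
  obtain ⟨n, hn⟩ : ∃ n, (negSet D w).card = n := ⟨_, rfl⟩
  induction n using Nat.strong_induction_on generalizing w with
  | _ n ih =>
    rcases Nat.eq_zero_or_pos n with h0 | hpos
    · refine ⟨[], by simp, ?_⟩
      rw [h0] at hn
      exact (wrel_nil_of_card_eq_zero D hD w hw.1 hn).act hD
    · rw [← hn] at hpos
      obtain ⟨j, hj, hneg⟩ := exists_simple_neg D hD w hw.1 hpos
      obtain ⟨J, hJ, hjJ⟩ := hO.cover j hj
      have hJwd : Wd D J := hO.wd J hJ
      have hnegJ : ∀ a ∈ J, ¬ D.IsPosRoot (wAct D w (D.simple a)) := by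
        intro a ha
        obtain ⟨k, -, hk⟩ := hO.trans J hJ j hjJ a ha
        rw [← hk]
        exact (stable_simple_iterate D hD G hS w hw j hj hneg k).2
      have hcard := hO.drop J hJ w hw.1 hnegJ
      have hlen : 0 < J.length := List.length_pos_of_mem hjJ
      have hst : StableW D G (w ++ J) := by
        refine ⟨hw.1.append hJwd, fun r hr => ?_⟩
        rw [wAct_append, wAct_append, hO.comm J hJ r hr, hw.2 _ (wAct_lt D hD J hJwd r hr)]
      obtain ⟨Js, hJs, hact⟩ := ih _ (by omega) (w ++ J) hst rfl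
      refine ⟨Js ++ [J], ?_, ?_⟩
      · intro J' hJ'
        rw [List.mem_append, List.mem_singleton] at hJ'
        rcases hJ' with h | rfl
        · exact hJs _ h
        · exact hJ
      · intro r hr
        rw [List.flatten_append, List.flatten_singleton, wAct_append,
          ← hact _ (wAct_lt D hD J hJwd r hr), wAct_append, hO.invol J hJ r hr]

end

end Cfsg.Agent.Lib.Helper5.TwX
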