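import Mathlib
import Cfsg.Prelude.Def_ChevStructure
import Cfsg.Agent.Lib.Helper5.TwX.W
import Cfsg.Agent.Lib.Helper5.ChevTwistBNPair

set_option autoImplicit false

/-!
The `(B, N)`-pair of a group `G¹` with a normal form `b n_w v` along the words commuting with a
symmetry of the roots.
-/

namespace Cfsg.Agent.Lib.Helper5.TwX

open Cfsg Cfsg.Lie Cfsg.Agent.Lib.Helper5.ChevSym Cfsg.Agent.Lib.Helper5.ChevStruct

variable {K : Type*} [Field K]

/-- the hypotheses for the `(B, N)`-pair -/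
structure HypX (D : ChevalleyDatum) (hD : D ∈ Seven) (G : GraphData) (orbs : List (List ℕ))
    (G1 : Subgroup (GL D.Idx K)) : Prop where
  hp : checkGraphPerm D G = true
  hO : OrbsX D G orbs
  hn : ∀ J ∈ orbs, wGL D hD J ∈ G1
  cell : ∀ g ∈ G1, ∃ Js : List (List ℕ), (∀ J ∈ Js, J ∈ orbs) ∧ ∃ b ∈ D.borelSubgroup K ⊓ G1,
      ∃ v ∈ unegSub D K Js.flatten ⊓ G1, g = b * wGL D hD Js.flatten * v
  hsub : ∀ J ∈ orbs, ∀ A : List ℕ, A.Sublist J → StableW D G A →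
      (∀ r < D.nroots, wAct D A r = r) ∨ (∀ r < D.nroots, wAct D A r = wAct D J r)
  hdist : ∀ J ∈ orbs, ∀ J' ∈ orbs, (∀ r < D.nroots, wAct D J r = wAct D J' r) → J = J'
  hne : ∀ J ∈ orbs, ∃ u ∈ unegSub D K J ⊓ G1, u ≠ 1

section

variable (D : ChevalleyDatum) (hD : D ∈ Seven) (G : GraphData) (orbs : List (List ℕ))
  (G1 : Subgroup (GL D.Idx K)) (hyp : HypX D hD G orbs G1)

include hyp in
/-- the normal form, with `v ∈ U` -/
theorem cellX (g : GL D.Idx K) (hg : g ∈ G1) :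
    ∃ Js : List (List ℕ), (∀ J ∈ Js, J ∈ orbs) ∧ ∃ b ∈ D.borelSubgroup K ⊓ G1,
      ∃ v ∈ D.posUnipotent K ⊓ G1, g = b * wGL D hD Js.flatten * v := by
  obtain ⟨Js, hJs, b, hb, v, hv, e⟩ := hyp.cell g hg
  obtain ⟨hv1, hv2⟩ := Subgroup.mem_inf.1 hv
  have hst := stable_flattenX D hD G orbs hyp.hO Js hJs
  have hvU : v ∈ D.posUnipotent K := unegOf_le_pos D _ (unegSub_le_unegOf D hD _ hst.1 hv1)
  exact ⟨Js, hJs, b, hb, v, Subgroup.mem_inf.2 ⟨hvU, hv2⟩, e⟩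

include hyp in
/-- `N ∩ G¹ = ⟨n_J⟩ (H ∩ G¹)` -/
theorem monomialX (n : GL D.Idx K) (hnN : n ∈ D.monomialSubgroup K) (hnG : n ∈ G1) :
    ∃ Js : List (List ℕ), (∀ J ∈ Js, J ∈ orbs) ∧ ∃ h ∈ D.diagonalSubgroup K ⊓ G1,
      n = wGL D hD Js.flatten * h := by
  obtain ⟨Js, hJs, b, hb, v, hv, e⟩ := cellX D hD G orbs G1 hyp n hnG
  have hst := stable_flattenX D hD G orbs hyp.hO Js hJs
  have hN := wGL_mem (F := K) D hD _ hst.1
  have e' : (1 : GL D.Idx K) * n * 1 = b * wGL D hD Js.flatten * v := by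
    rw [← e]; group
  have hH := bruhat_cell_unique D hD 1 b n _ 1 v (one_mem _) (Subgroup.mem_inf.1 hb).1 hnN hN
    (one_mem _) (pos_le_borel D (Subgroup.mem_inf.1 hv).1) e'
  refine ⟨Js, hJs, (wGL D hD Js.flatten)⁻¹ * n, Subgroup.mem_inf.2 ⟨?_, ?_⟩, by group⟩
  · have : (wGL D hD Js.flatten)⁻¹ * n = (n⁻¹ * wGL D hD Js.flatten)⁻¹ := by group
    rw [this]
    exact inv_mem hH
  · exact mul_mem (inv_mem (wGL_flatten_mem D hD orbs _ hyp.hn Js hJs)) hnG

include hyp in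
/-- the double cosets of `G¹` are the traces of those of the Chevalley group -/
theorem doubleCosetX (m : GL D.Idx K) (hmN : m ∈ D.monomialSubgroup K) (hmG : m ∈ G1)
    (g : GL D.Idx K) (hg : g ∈ G1) (b₁ b₂ : GL D.Idx K) (hb₁ : b₁ ∈ D.borelSubgroup K)
    (hb₂ : b₂ ∈ D.borelSubgroup K) (e : g = b₁ * m * b₂) :
    ∃ c₁ ∈ D.borelSubgroup K ⊓ G1, ∃ c₂ ∈ D.borelSubgroup K ⊓ G1, g = c₁ * m * c₂ := by
  obtain ⟨Js, hJs, b, hb, v, hv, e2⟩ := cellX D hD G orbs G1 hyp g hg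
  have hst := stable_flattenX D hD G orbs hyp.hO Js hJs
  have hN := wGL_mem (F := K) D hD _ hst.1
  obtain ⟨hv1, hv2⟩ := Subgroup.mem_inf.1 hv
  have hH := bruhat_cell_unique D hD b₁ b m _ b₂ v hb₁ (Subgroup.mem_inf.1 hb).1 hmN hN
    hb₂ (pos_le_borel D hv1) (e.symm.trans e2)
  have hHG : m⁻¹ * wGL D hD Js.flatten ∈ G1 :=
    mul_mem (inv_mem hmG) (wGL_flatten_mem D hD orbs _ hyp.hn Js hJs)
  refine ⟨b, hb, m⁻¹ * wGL D hD Js.flatten * v, Subgroup.mem_inf.2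
    ⟨mul_mem (diagonal_le_borel D hH) (pos_le_borel D hv1), mul_mem hHG hv2⟩, ?_⟩
  rw [e2]
  group

include hyp in
/-- the double coset condition in `G¹` -/
theorem unionX (J : List ℕ) (hJ : J ∈ orbs) (n : GL D.Idx K)
    (hnN : n ∈ D.monomialSubgroup K) (hnG : n ∈ G1) (b : GL D.Idx K)
    (hb : b ∈ D.borelSubgroup K ⊓ G1) :
    (∃ c₁ ∈ D.borelSubgroup K ⊓ G1, ∃ c₂ ∈ D.borelSubgroup K ⊓ G1,
      wGL D hD J * b * n = c₁ * (wGL D hD J * n) * c₂) ∨
    (∃ c₁ ∈ D.borelSubgroup K ⊓ G1, ∃ c₂ ∈ D.borelSubgroup K ⊓ G1,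
      wGL D hD J * b * n = c₁ * n * c₂) := by
  have hJwd : Wd D J := hyp.hO.wd J hJ
  obtain ⟨hb1, hb2⟩ := Subgroup.mem_inf.1 hb
  have hgG : wGL D hD J * b * n ∈ G1 := mul_mem (mul_mem (hyp.hn J hJ) hb2) hnG
  obtain ⟨A, hA, b₁, hb₁, b₂, hb₂, e⟩ := wGL_sublist_cell D hD J hJwd n hnN b hb1
  have hAwd : Wd D A := fun i hi => hJwd i (hA.subset hi)
  obtain ⟨Ls, hLs, h, hh, en⟩ := monomialX D hD G orbs G1 hyp n hnN hnG
  obtain ⟨Js, hJs, b₃, hb₃, v, hv, e2⟩ := cellX D hD G orbs G1 hyp _ hgG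
  have hstJ := stable_flattenX D hD G orbs hyp.hO Js hJs
  have hstL := stable_flattenX D hD G orbs hyp.hO Ls hLs
  have hNJ := wGL_mem (F := K) D hD _ hstJ.1
  have hAL : Wd D (A ++ Ls.flatten) := hAwd.append hstL.1
  have hNAL := wGL_mem (F := K) D hD _ hAL
  have hNA := wGL_mem (F := K) D hD _ hAwd
  have hNJ1 := wGL_mem (F := K) D hD _ hJwd
  have hH := bruhat_cell_unique D hD b₁ b₃ _ _ b₂ v hb₁ (Subgroup.mem_inf.1 hb₃).1
    (mul_mem hNA hnN) hNJ hb₂ (pos_le_borel D (Subgroup.mem_inf.1 hv).1) (e.symm.trans e2)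
  -- the words `A ++ Ls` and `Js` give the same element of the Weyl group
  have hH2 : ((wGL D hD (A ++ Ls.flatten))⁻¹ * wGL D hD Js.flatten : GL D.Idx K)
      ∈ D.diagonalSubgroup K := by
    have e3 : ((wGL D hD (A ++ Ls.flatten))⁻¹ * wGL D hD Js.flatten : GL D.Idx K)
        = h * ((wGL D hD A * n)⁻¹ * wGL D hD Js.flatten) := by
      rw [en, wGL_append]; group
    rw [e3]
    exact mul_mem (Subgroup.mem_inf.1 hh).1 hH
  have hH3 : (wGL D hD Js.flatten * (wGL D hD (A ++ Ls.flatten))⁻¹ : GL D.Idx K)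
      ∈ D.diagonalSubgroup K := by
    have h1 := (conj_monomial_diag_mem D hD _ hNAL _ hH2).1
    have e3 : (wGL D hD Js.flatten * (wGL D hD (A ++ Ls.flatten))⁻¹ : GL D.Idx K)
        = wGL D hD (A ++ Ls.flatten) *
          ((wGL D hD (A ++ Ls.flatten))⁻¹ * wGL D hD Js.flatten) *
          (wGL D hD (A ++ Ls.flatten))⁻¹ := by group
    rw [e3]
    exact h1
  have hact := (hrel_iff_act_eq D hD _ _ hstJ.1 hAL).1 hH3
  have hstA : StableW D G A := by
    apply stable_congr D G hyp.hp (Js.flatten ++ Ls.flatten.reverse) A hAwd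
      (stable_append D hD G _ _ hstJ (stable_reverse D hD G hyp.hp _ hstL))
    intro r hr
    rw [wAct_append, hact _ (wAct_lt D hD _ hstL.1.reverse r hr), wAct_append,
      wAct_reverse D hD _ hstL.1 r hr]
  rcases hyp.hsub J hJ A hA hstA with hid | hJA
  · right
    have hAH : wGL D hD A ∈ D.diagonalSubgroup K := wGL_mem_diagonal_of_act D hD A hAwd hid
    have e4 : wGL D hD J * b * n = (b₁ * wGL D hD A) * n * b₂ := by
      rw [e]; group
    exact doubleCosetX D hD G orbs G1 hyp n hnN hnG _ hgG (b₁ * wGL D hD A) b₂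
      (mul_mem hb₁ (diagonal_le_borel D hAH)) hb₂ e4
  · left
    have hAJ : (wGL D hD A * (wGL D hD J)⁻¹ : GL D.Idx K) ∈ D.diagonalSubgroup K :=
      hrel_of_act_eq (F := K) D hD A J hAwd hJwd hJA
    have e4 : wGL D hD J * b * n
        = (b₁ * (wGL D hD A * (wGL D hD J)⁻¹)) * (wGL D hD J * n) * b₂ := by
      rw [e]; group
    exact doubleCosetX D hD G orbs G1 hyp _ (mul_mem hNJ1 hnN) (mul_mem (hyp.hn _ hJ) hnG) _ hgG
      (b₁ * (wGL D hD A * (wGL D hD J)⁻¹)) b₂ (mul_mem hb₁ (diagonal_le_borel D hAJ)) hb₂ e4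

include hyp in
/-- `n_J B¹ n_J ≠ B¹` -/
theorem conj_neX (J : List ℕ) (hJ : J ∈ orbs) (u : GL D.Idx K)
    (hu : u ∈ unegSub D K J) (hu1 : u ≠ 1) :
    wGL D hD J * u * wGL D hD J ∉ D.borelSubgroup K := by
  have hJwd : Wd D J := hyp.hO.wd J hJ
  intro hB
  have hV : wGL D hD J * u * (wGL D hD J)⁻¹ ∈ D.negUnipotent K :=
    conj_unegOf_le_neg D _ u (unegSub_le_unegOf D hD J hJwd hu)
  have hsq : (wGL D hD J * wGL D hD J : GL D.Idx K) ∈ D.diagonalSubgroup K := by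
    rw [← wGL_append]
    apply wGL_mem_diagonal_of_act D hD _ (hJwd.append hJwd)
    intro r hr
    rw [wAct_append, hyp.hO.invol J hJ r hr]
  have hB2 : wGL D hD J * u * (wGL D hD J)⁻¹ ∈ D.borelSubgroup K := by
    have e : wGL D hD J * u * (wGL D hD J)⁻¹
        = (wGL D hD J * u * wGL D hD J) * (wGL D hD J * wGL D hD J)⁻¹ := by group
    rw [e]
    exact mul_mem hB (inv_mem (diagonal_le_borel D hsq))
  have h3 : wGL D hD J * u * (wGL D hD J)⁻¹ ∈ D.borelSubgroup K ⊓ D.negUnipotent K :=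
    Subgroup.mem_inf.2 ⟨hB2, hV⟩
  rw [borel_inf_neg D hD, Subgroup.mem_bot] at h3
  apply hu1
  have : u = (wGL D hD J)⁻¹ * (wGL D hD J * u * (wGL D hD J)⁻¹) * wGL D hD J := by group
  rw [this, h3]
  group

end

/-- the `(B, N)`-pair of `G¹` -/
def bnPairX (D : ChevalleyDatum) (hD : D ∈ Seven) (G : GraphData) (orbs : List (List ℕ))
    (G1 : Subgroup (GL D.Idx K)) (hyp : HypX D hD G orbs G1) : Cfsg.BNPair ↥G1 where
  B := (D.borelSubgroup K ⊓ G1).subgroupOf G1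
  N := (D.monomialSubgroup K ⊓ G1).subgroupOf G1
  S := {s : ↥G1 | ∃ J ∈ orbs, (s : GL D.Idx K) = wGL D hD J}
  sup_eq_top := by
    rw [eq_top_iff]
    intro x _
    obtain ⟨Js, hJs, b, hb, v, hv, e⟩ := cellX D hD G orbs G1 hyp x.1 x.2
    have hst := stable_flattenX D hD G orbs hyp.hO Js hJs
    have hnG := wGL_flatten_mem D hD orbs _ hyp.hn Js hJs
    have hbG := (Subgroup.mem_inf.1 hb).2
    have hvG := (Subgroup.mem_inf.1 hv).2
    have ex : x = ⟨b, hbG⟩ * ⟨wGL D hD Js.flatten, hnG⟩ * ⟨v, hvG⟩ := Subtype.ext e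
    rw [ex]
    apply mul_mem (mul_mem _ _) _
    · apply Subgroup.mem_sup_left
      rw [Subgroup.mem_subgroupOf]
      exact hb
    · apply Subgroup.mem_sup_right
      rw [Subgroup.mem_subgroupOf]
      exact Subgroup.mem_inf.2 ⟨wGL_mem D hD _ hst.1, hnG⟩
    · apply Subgroup.mem_sup_left
      rw [Subgroup.mem_subgroupOf]
      exact Subgroup.mem_inf.2 ⟨pos_le_borel D (Subgroup.mem_inf.1 hv).1, hvG⟩
  conj_mem := by
    intro n hn t ht
    rw [Subgroup.mem_subgroupOf] at hn ⊢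
    obtain ⟨ht1, ht2⟩ := Subgroup.mem_inf.1 ht
    rw [Subgroup.mem_subgroupOf] at ht1 ht2
    have hn' : (n : GL D.Idx K) ∈ D.monomialSubgroup K := (Subgroup.mem_inf.1 hn).1
    have ht' : (t : GL D.Idx K) ∈ D.diagonalSubgroup K := by
      rw [← borel_inf_monomial D hD]
      exact Subgroup.mem_inf.2 ⟨(Subgroup.mem_inf.1 ht1).1, (Subgroup.mem_inf.1 ht2).1⟩
    refine Subgroup.mem_inf.2 ⟨?_, (n * t * n⁻¹).2⟩
    exact diagonal_le_borel D (conj_monomial_diag_mem D hD _ hn' _ ht').1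
  subset := by
    rintro s ⟨J, hJ, hs⟩
    show s ∈ (D.monomialSubgroup K ⊓ G1).subgroupOf G1
    rw [Subgroup.mem_subgroupOf]
    refine Subgroup.mem_inf.2 ⟨?_, s.2⟩
    rw [hs]
    exact wGL_mem D hD J (hyp.hO.wd J hJ)
  sq_mem := by
    rintro s ⟨J, hJ, hs⟩
    rw [Subgroup.mem_subgroupOf]
    refine Subgroup.mem_inf.2 ⟨?_, (s * s).2⟩
    have hJwd : Wd D J := hyp.hO.wd J hJ
    show (s : GL D.Idx K) * (s : GL D.Idx K) ∈ D.borelSubgroup K
    rw [hs, ← wGL_append]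
    apply diagonal_le_borel D
    apply wGL_mem_diagonal_of_act D hD _ (hJwd.append hJwd)
    intro r hr
    rw [wAct_append, hyp.hO.invol J hJ r hr]
  inj := by
    rintro s ⟨J, hJ, hs⟩ s' ⟨J', hJ', hs'⟩ h
    rw [Subgroup.mem_subgroupOf] at h
    have hJwd : Wd D J := hyp.hO.wd J hJ
    have hJ'wd : Wd D J' := hyp.hO.wd J' hJ'
    have hN := wGL_mem (F := K) D hD J hJwd
    have hN' := wGL_mem (F := K) D hD J' hJ'wd
    have h1 : ((wGL D hD J)⁻¹ * wGL D hD J' : GL D.Idx K) ∈ D.diagonalSubgroup K := by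
      rw [← borel_inf_monomial D hD]
      refine Subgroup.mem_inf.2 ⟨?_, mul_mem (inv_mem hN) hN'⟩
      have := (Subgroup.mem_inf.1 h).1
      rw [← hs, ← hs']
      exact this
    have h2 : (wGL D hD J' * (wGL D hD J)⁻¹ : GL D.Idx K) ∈ D.diagonalSubgroup K := by
      have := (conj_monomial_diag_mem D hD _ hN _ h1).1
      have e : (wGL D hD J' * (wGL D hD J)⁻¹ : GL D.Idx K)
          = wGL D hD J * ((wGL D hD J)⁻¹ * wGL D hD J') * (wGL D hD J)⁻¹ := by group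
      rw [e]
      exact this
    have hact := (hrel_iff_act_eq D hD _ _ hJ'wd hJwd).1 h2
    have hJJ := hyp.hdist J' hJ' J hJ hact
    apply Subtype.ext
    rw [hs, hs', hJJ]
  closure_sup := by
    apply le_antisymm
    · apply sup_le
      · rw [Subgroup.closure_le]
        rintro s ⟨J, hJ, hs⟩
        show s ∈ (D.monomialSubgroup K ⊓ G1).subgroupOf G1
        rw [Subgroup.mem_subgroupOf]
        refine Subgroup.mem_inf.2 ⟨?_, s.2⟩
        rw [hs]
        exact wGL_mem D hD J (hyp.hO.wd J hJ)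
      · exact inf_le_right
    · intro x hx
      rw [Subgroup.mem_subgroupOf] at hx
      obtain ⟨Js, hJs, h, hh, e⟩ := monomialX D hD G orbs G1 hyp x.1 (Subgroup.mem_inf.1 hx).1 x.2
      have hnG := wGL_flatten_mem D hD orbs _ hyp.hn Js hJs
      have hhG := (Subgroup.mem_inf.1 hh).2
      have ex : x = ⟨wGL D hD Js.flatten, hnG⟩ * ⟨h, hhG⟩ := Subtype.ext e
      rw [ex]
      apply mul_mem
      · apply Subgroup.mem_sup_left
        clear ex e
        induction Js with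
        | nil =>
          have : (⟨wGL D hD ([] : List (List ℕ)).flatten, hnG⟩ : ↥G1) = 1 :=
            Subtype.ext (by
              show wGL D hD ([] : List (List ℕ)).flatten = 1
              rw [List.flatten_nil, wGL_nil])
          rw [this]
          exact one_mem _
        | cons J Js ih =>
          have hJ := hJs J (List.mem_cons_self ..)
          have hJs' : ∀ J' ∈ Js, J' ∈ orbs := fun J' hJ' => hJs J' (List.mem_cons_of_mem _ hJ')
          have hG' := wGL_flatten_mem D hD orbs _ hyp.hn Js hJs'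
          have : (⟨wGL D hD (J :: Js).flatten, hnG⟩ : ↥G1)
              = ⟨wGL D hD J, hyp.hn J hJ⟩ * ⟨wGL D hD Js.flatten, hG'⟩ :=
            Subtype.ext (by
              show wGL D hD (J :: Js).flatten = wGL D hD J * wGL D hD Js.flatten
              rw [List.flatten_cons, wGL_append])
          rw [this]
          exact mul_mem (Subgroup.subset_closure ⟨J, hJ, rfl⟩) (ih hJs' hG')
      · apply Subgroup.mem_sup_right
        refine Subgroup.mem_inf.2 ⟨?_, ?_⟩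
        · rw [Subgroup.mem_subgroupOf]
          exact Subgroup.mem_inf.2 ⟨diagonal_le_borel D (Subgroup.mem_inf.1 hh).1, hhG⟩
        · rw [Subgroup.mem_subgroupOf]
          exact Subgroup.mem_inf.2 ⟨diagonal_le_monomial D (Subgroup.mem_inf.1 hh).1, hhG⟩
  mul_mem_union := by
    rintro s ⟨J, hJ, hs⟩ n hn b hb
    rw [Subgroup.mem_subgroupOf] at hn hb
    have key := unionX D hD G orbs G1 hyp J hJ n.1 (Subgroup.mem_inf.1 hn).1 n.2 b.1 hb
    rw [← hs] at key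
    rcases key with ⟨c₁, hc₁, c₂, hc₂, e⟩ | ⟨c₁, hc₁, c₂, hc₂, e⟩
    · left
      rw [DoubleCoset.mem_doubleCoset]
      refine ⟨⟨c₁, (Subgroup.mem_inf.1 hc₁).2⟩, ?_, ⟨c₂, (Subgroup.mem_inf.1 hc₂).2⟩, ?_,
        Subtype.ext e⟩
      · show _ ∈ (D.borelSubgroup K ⊓ G1).subgroupOf G1
        rw [Subgroup.mem_subgroupOf]
        exact hc₁
      · show _ ∈ (D.borelSubgroup K ⊓ G1).subgroupOf G1
        rw [Subgroup.mem_subgroupOf]
        exact hc₂
    · right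
      rw [DoubleCoset.mem_doubleCoset]
      refine ⟨⟨c₁, (Subgroup.mem_inf.1 hc₁).2⟩, ?_, ⟨c₂, (Subgroup.mem_inf.1 hc₂).2⟩, ?_,
        Subtype.ext e⟩
      · show _ ∈ (D.borelSubgroup K ⊓ G1).subgroupOf G1
        rw [Subgroup.mem_subgroupOf]
        exact hc₁
      · show _ ∈ (D.borelSubgroup K ⊓ G1).subgroupOf G1
        rw [Subgroup.mem_subgroupOf]
        exact hc₂
  conj_ne := by
    rintro s ⟨J, hJ, hs⟩ heq
    obtain ⟨u, hu, hu1⟩ := hyp.hne J hJ
    obtain ⟨hu2, huG⟩ := Subgroup.mem_inf.1 hu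
    have hJwd : Wd D J := hyp.hO.wd J hJ
    have huU : u ∈ D.posUnipotent K := unegOf_le_pos D _ (unegSub_le_unegOf D hD _ hJwd hu2)
    have hmem : s * ⟨u, huG⟩ * s ∈ (fun b : ↥G1 => s * b * s) ''
        (((D.borelSubgroup K ⊓ G1).subgroupOf G1 : Subgroup ↥G1) : Set ↥G1) := by
      refine ⟨⟨u, huG⟩, ?_, rfl⟩
      rw [SetLike.mem_coe, Subgroup.mem_subgroupOf]
      exact Subgroup.mem_inf.2 ⟨pos_le_borel D huU, huG⟩
    rw [heq, SetLike.mem_coe, Subgroup.mem_subgroupOf] at hmem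
    have h' : (s : GL D.Idx K) * u * (s : GL D.Idx K) ∈ D.borelSubgroup K :=
      (Subgroup.mem_inf.1 hmem).1
    rw [hs] at h'
    exact conj_neX D hD G orbs G1 hyp J hJ u hu2 hu1 h'

end Cfsg.Agent.Lib.Helper5.TwX
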