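import Mathlib
import Cfsg.Prelude.Def_ChevStructure
import Cfsg.Agent.Lib.Helper5.TwX.BN
import Cfsg.Agent.Lib.Helper5.ChevTwistWeyl

set_option autoImplicit false

/-!
The Weyl group `N¹ / H¹` of a group `G¹` with a normal form along the words commuting with a
symmetry of the roots is the group `W¹` generated by the `w_J`.
-/

namespace Cfsg.Agent.Lib.Helper5.TwX

open Cfsg Cfsg.Lie Cfsg.Agent.Lib.Helper5.ChevSym Cfsg.Agent.Lib.Helper5.ChevStruct

variable {K : Type*} [Field K]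

section

variable (D : ChevalleyDatum) (hD : D ∈ Seven) (G : GraphData) (orbs : List (List ℕ))
  (hO : OrbsX D G orbs)

include hO in
theorem wPerm_orb_sqX (J : List ℕ) (hJ : J ∈ orbs) : wPerm D hD J * wPerm D hD J = 1 := by
  have hJwd : Wd D J := hO.wd J hJ
  rw [← wPerm_append, ← wPerm_nil D hD]
  apply (wPerm_eq_iff D hD _ _ (hJwd.append hJwd) (Wd.nil D)).2
  intro r hr
  rw [wAct_append, hO.invol J hJ r hr]
  rfl

include hO in
theorem wPerm_orb_invX (J : List ℕ) (hJ : J ∈ orbs) : (wPerm D hD J)⁻¹ = wPerm D hD J :=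
  inv_eq_of_mul_eq_one_left (wPerm_orb_sqX D hD G orbs hO J hJ)

include hO in
theorem wPerm_flatten_reverseX (Js : List (List ℕ)) (hJs : ∀ J ∈ Js, J ∈ orbs) :
    wPerm D hD Js.reverse.flatten = (wPerm D hD Js.flatten)⁻¹ := by
  induction Js with
  | nil => simp [wPerm_nil]
  | cons J Js ih =>
    rw [List.reverse_cons, List.flatten_append, List.flatten_singleton, wPerm_append,
      ih (fun J' hJ' => hJs J' (List.mem_cons_of_mem _ hJ')), List.flatten_cons, wPerm_append,
      mul_inv_rev, wPerm_orb_invX D hD G orbs hO J (hJs J (List.mem_cons_self ..))]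

include hO in
theorem exists_orbits_of_mem_WTX (σ : Equiv.Perm (Fin D.nroots)) (hσ : σ ∈ WT D hD orbs) :
    ∃ Js : List (List ℕ), (∀ J ∈ Js, J ∈ orbs) ∧ wPerm D hD Js.flatten = σ := by
  unfold WT at hσ
  induction hσ using Subgroup.closure_induction with
  | mem y hy =>
    obtain ⟨J, hJ, rfl⟩ := hy
    refine ⟨[J], ?_, by rw [List.flatten_singleton]⟩
    intro J' hJ'
    rw [List.mem_singleton] at hJ'
    rw [hJ']
    exact hJ
  | one => exact ⟨[], by simp, rfl⟩
  | mul a b _ _ ha hb =>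
    obtain ⟨Ja, hJa, rfl⟩ := ha
    obtain ⟨Jb, hJb, rfl⟩ := hb
    refine ⟨Ja ++ Jb, ?_, by rw [List.flatten_append, wPerm_append]⟩
    intro J hJ
    rcases List.mem_append.1 hJ with h | h
    · exact hJa J h
    · exact hJb J h
  | inv a _ ha =>
    obtain ⟨Ja, hJa, rfl⟩ := ha
    exact ⟨Ja.reverse, fun J hJ => hJa J (List.mem_reverse.1 hJ),
      wPerm_flatten_reverseX D hD G orbs hO Ja hJa⟩

end

section

variable (D : ChevalleyDatum) (hD : D ∈ Seven) (G : GraphData) (orbs : List (List ℕ))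
  (G1 : Subgroup (GL D.Idx K)) (hyp : HypX D hD G orbs G1)

include hyp in
theorem weylHomT0_applyX (n : ↥(D.monomialSubgroup K ⊓ G1)) :
    ∃ Js : List (List ℕ), (∀ J ∈ Js, J ∈ orbs) ∧
      weylHomT0 D hD G1 n = wPerm D hD Js.flatten ∧
      ∃ h ∈ D.diagonalSubgroup K ⊓ G1, (n : GL D.Idx K) = wGL D hD Js.flatten * h := by
  obtain ⟨hn1, hn2⟩ := Subgroup.mem_inf.1 n.2
  obtain ⟨Js, hJs, h, hh, e⟩ := monomialX D hD G orbs G1 hyp n.1 hn1 hn2
  have hst := stable_flattenX D hD G orbs hyp.hO Js hJs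
  refine ⟨Js, hJs, ?_, h, hh, e⟩
  unfold weylHomT0
  rw [MonoidHom.comp_apply, MonoidHom.comp_apply,
    weylHom_apply D hD _ Js.flatten hst.1 h (Subgroup.mem_inf.1 hh).1 e]
  rfl

include hyp in
theorem weylHomT0_memX (n : ↥(D.monomialSubgroup K ⊓ G1)) :
    weylHomT0 D hD G1 n ∈ WT D hD orbs := by
  obtain ⟨Js, hJs, e, -⟩ := weylHomT0_applyX D hD G orbs G1 hyp n
  rw [e]
  exact wPerm_flatten_mem_WT D hD orbs Js hJs

/-- the homomorphism `N¹ → W¹` -/
noncomputable def weylHomTX : ↥(D.monomialSubgroup K ⊓ G1) →* ↥(WT D hD orbs) :=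
  (weylHomT0 D hD G1).codRestrict (WT D hD orbs) (weylHomT0_memX D hD G orbs G1 hyp)

theorem weylHomTX_surjective :
    Function.Surjective (weylHomTX D hD G orbs G1 hyp) := by
  rintro ⟨σ, hσ⟩
  obtain ⟨Js, hJs, rfl⟩ := exists_orbits_of_mem_WTX D hD G orbs hyp.hO σ hσ
  have hst := stable_flattenX D hD G orbs hyp.hO Js hJs
  have hN := wGL_mem (F := K) D hD _ hst.1
  have hG := wGL_flatten_mem D hD orbs _ hyp.hn Js hJs
  refine ⟨⟨wGL D hD Js.flatten, Subgroup.mem_inf.2 ⟨hN, hG⟩⟩, ?_⟩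
  apply Subtype.ext
  show weylHomT0 D hD G1 _ = wPerm D hD Js.flatten
  unfold weylHomT0
  rw [MonoidHom.comp_apply, MonoidHom.comp_apply,
    weylHom_apply D hD _ Js.flatten hst.1 1 (one_mem _) (by rw [mul_one]; rfl)]
  rfl

theorem weylHomTX_ker :
    (weylHomTX D hD G orbs G1 hyp).ker
      = (D.diagonalSubgroup K ⊓ G1).subgroupOf (D.monomialSubgroup K ⊓ G1) := by
  ext n
  rw [MonoidHom.mem_ker, Subgroup.mem_subgroupOf]
  have h0 : weylHomTX D hD G orbs G1 hyp n = 1 ↔
      (weylHom D hD K) (Subgroup.inclusion inf_le_left n) = 1 := by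
    constructor
    · intro h
      have h1 : weylHomT0 D hD G1 n = 1 := congrArg Subtype.val h
      unfold weylHomT0 at h1
      rw [MonoidHom.comp_apply, MonoidHom.comp_apply] at h1
      exact Subtype.ext h1
    · intro h
      apply Subtype.ext
      show weylHomT0 D hD G1 n = 1
      unfold weylHomT0
      rw [MonoidHom.comp_apply, MonoidHom.comp_apply, h]
      rfl
  rw [h0, ← MonoidHom.mem_ker, weylHom_ker, Subgroup.mem_subgroupOf]
  constructor
  · intro h
    exact Subgroup.mem_inf.2 ⟨h, (Subgroup.mem_inf.1 n.2).2⟩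
  · intro h
    exact (Subgroup.mem_inf.1 h).1

include hyp in
/-- `N¹ / H¹` is any group isomorphic to `W¹` -/
theorem exists_hom_of_equiv {Y : Type*} [Group Y] (e : ↥(WT D hD orbs) ≃* Y) :
    ∃ φ : ↥(D.monomialSubgroup K ⊓ G1) →* Y, Function.Surjective φ ∧
      φ.ker = (D.diagonalSubgroup K ⊓ G1).subgroupOf (D.monomialSubgroup K ⊓ G1) := by
  refine ⟨e.toMonoidHom.comp (weylHomTX D hD G orbs G1 hyp), ?_, ?_⟩
  · exact e.surjective.comp (weylHomTX_surjective D hD G orbs G1 hyp)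
  · rw [← weylHomTX_ker D hD G orbs G1 hyp]
    ext n
    rw [MonoidHom.mem_ker, MonoidHom.mem_ker, MonoidHom.comp_apply]
    constructor
    · intro h
      have := congrArg e.symm h
      simpa using this
    · intro h
      rw [h, map_one]

end

end Cfsg.Agent.Lib.Helper5.TwX
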