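import Mathlib
import Cfsg.Prelude.Def_ChevStructure
import Cfsg.Agent.Lib.Helper5.TwX.BN
import Cfsg.Agent.Lib.Helper5.ChevTwistSimple

set_option autoImplicit false

/-!
Simplicity of a group `G¹` with a normal form along the words commuting with a symmetry of the
roots, from its `(B, N)`-pair.
-/

namespace Cfsg.Agent.Lib.Helper5.TwX

open Cfsg Cfsg.Lie Cfsg.Agent.Lib.Helper5.ChevSym Cfsg.Agent.Lib.Helper5.ChevStruct

variable {K : Type*} [Field K]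

section

variable (D : ChevalleyDatum) (hD : D ∈ Seven) (G : GraphData) (orbs : List (List ℕ))
  (G1 : Subgroup (GL D.Idx K)) (hyp : HypX D hD G orbs G1)

include hyp in
theorem nontrivialX (J : List ℕ) (hJ : J ∈ orbs) : Nontrivial ↥G1 := by
  obtain ⟨u, hu, hu1⟩ := hyp.hne J hJ
  obtain ⟨hu2, hu3⟩ := Subgroup.mem_inf.1 hu
  exact ⟨⟨⟨u, hu3⟩, 1, fun h => hu1 (congrArg Subtype.val h)⟩⟩

/-- the `(B, N)`-pair is irreducible when the twisted diagram is connected -/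
theorem bnPairX_irreducible
    (hconn : ∀ p : List ℕ → Prop, (∃ J ∈ orbs, p J) → (∃ J ∈ orbs, ¬ p J) →
      ∃ J1 ∈ orbs, ∃ J2 ∈ orbs, p J1 ∧ ¬ p J2 ∧
        ∃ r < D.nroots, wAct D (J1 ++ J2) r ≠ wAct D (J2 ++ J1) r) :
    (bnPairX D hD G orbs G1 hyp).Irreducible := by
  intro Js hJs hJne hJc
  let p : List ℕ → Prop := fun J => ∃ hJo : J ∈ orbs, (⟨wGL D hD J, hyp.hn J hJo⟩ : ↥G1) ∈ Js
  have hS : ∀ s ∈ (bnPairX D hD G orbs G1 hyp).S, ∃ J, ∃ hJo : J ∈ orbs,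
      s = ⟨wGL D hD J, hyp.hn J hJo⟩ := by
    rintro s ⟨J, hJ, hs⟩
    exact ⟨J, hJ, Subtype.ext hs⟩
  have h1 : ∃ J ∈ orbs, p J := by
    obtain ⟨s, hs⟩ := hJne
    obtain ⟨J, hJ, rfl⟩ := hS s (hJs hs)
    exact ⟨J, hJ, hJ, hs⟩
  have h2 : ∃ J ∈ orbs, ¬ p J := by
    obtain ⟨s, hs, hsJ⟩ := hJc
    obtain ⟨J, hJ, rfl⟩ := hS s hs
    exact ⟨J, hJ, fun ⟨_, h⟩ => hsJ h⟩
  obtain ⟨J1, hJ1, J2, hJ2, ⟨_, hp1⟩, hp2, r, hr, hne⟩ := hconn p h1 h2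
  refine ⟨⟨wGL D hD J1, hyp.hn J1 hJ1⟩, hp1, ⟨wGL D hD J2, hyp.hn J2 hJ2⟩,
    ⟨⟨J2, hJ2, rfl⟩, fun h => hp2 ⟨hJ2, h⟩⟩, ?_⟩
  intro hmem
  have hmem' : (wGL D hD J1 * wGL D hD J2 * (wGL D hD J1)⁻¹ * (wGL D hD J2)⁻¹ : GL D.Idx K)
      ∈ D.borelSubgroup K := by
    have := Subgroup.mem_subgroupOf.1 hmem
    exact (Subgroup.mem_inf.1 this).1
  have hw1 : Wd D J1 := hyp.hO.wd J1 hJ1
  have hw2 : Wd D J2 := hyp.hO.wd J2 hJ2
  have hN1 := wGL_mem (F := K) D hD J1 hw1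
  have hN2 := wGL_mem (F := K) D hD J2 hw2
  have hH : (wGL D hD (J1 ++ J2) * (wGL D hD (J2 ++ J1))⁻¹ : GL D.Idx K)
      ∈ D.diagonalSubgroup K := by
    rw [← borel_inf_monomial D hD]
    have e : (wGL D hD (J1 ++ J2) * (wGL D hD (J2 ++ J1))⁻¹ : GL D.Idx K)
        = wGL D hD J1 * wGL D hD J2 * (wGL D hD J1)⁻¹ * (wGL D hD J2)⁻¹ := by
      rw [wGL_append, wGL_append]
      group
    rw [e]
    exact Subgroup.mem_inf.2 ⟨hmem',
      mul_mem (mul_mem (mul_mem hN1 hN2) (inv_mem hN1)) (inv_mem hN2)⟩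
  exact hne ((hrel_iff_act_eq D hD _ _ (hw1.append hw2) (hw2.append hw1)).1 hH r hr)

include hyp in
/-- `G¹` is simple and non-abelian, whenever it is perfect -/
theorem simpleX
    (hconn : ∀ p : List ℕ → Prop, (∃ J ∈ orbs, p J) → (∃ J ∈ orbs, ¬ p J) →
      ∃ J1 ∈ orbs, ∃ J2 ∈ orbs, p J1 ∧ ¬ p J2 ∧
        ∃ r < D.nroots, wAct D (J1 ++ J2) r ≠ wAct D (J2 ++ J1) r)
    (J0 : List ℕ) (hJ0 : J0 ∈ orbs)
    (hperf : commutator ↥G1 = ⊤)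
    (hcore : ((D.borelSubgroup K ⊓ G1).subgroupOf G1).normalCore = ⊥) :
    IsSimpleGroup ↥G1 ∧ ¬ IsMulCommutative ↥G1 := by
  have hnt : Nontrivial ↥G1 := nontrivialX D hD G orbs G1 hyp J0 hJ0
  have hsimple : IsSimpleGroup ↥G1 :=
    Cfsg.Agent.S0319.result (bnPairX D hD G orbs G1 hyp)
      (bnPairX_irreducible D hD G orbs G1 hyp hconn)
      (twisted_borel_isSolvable D hD G1) hperf hcore
  refine ⟨hsimple, fun hcomm => ?_⟩
  have hbot : commutator ↥G1 = ⊥ := by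
    rw [commutator_def, Subgroup.commutator_eq_bot_iff_le_centralizer]
    intro x _ y _
    exact (hcomm.is_comm.comm y x)
  rw [hbot] at hperf
  exact bot_ne_top hperf

end

end Cfsg.Agent.Lib.Helper5.TwX
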